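import Mathlib

/-!
# Additive natural functions of characters vanish

If `v` assigns to each character `χ : G → B` (with values in `R`-algebras `B`) an element
of `B`, naturally in `B` and additively in `χ`, then `v = 0`.  This is the statement that the
group algebra has no non-zero primitive elements.
-/

namespace Groth.Agent.Lib.Helper6.DS

universe u

theorem eq_zero_of_diag {R : Type*} [CommRing R] {G : Type*} [Group G] (a : MonoidAlgebra R G)
    (h : MonoidAlgebra.mapDomain (fun g : G => (g, g)) a =
      MonoidAlgebra.mapDomain (fun g : G => (g, (1 : G))) a +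
        MonoidAlgebra.mapDomain (fun g : G => ((1 : G), g)) a) : a = 0 := by
  classical
  have hd : Function.Injective (fun g : G => (g, g)) := fun x y hxy => (Prod.ext_iff.mp hxy).1
  have h1 : Function.Injective (fun g : G => (g, (1 : G))) := fun x y hxy => (Prod.ext_iff.mp hxy).1
  have h2 : Function.Injective (fun g : G => ((1 : G), g)) := fun x y hxy => (Prod.ext_iff.mp hxy).2
  have key : ∀ g : G, a.coeff g =
      (Finsupp.mapDomain (fun g : G => (g, (1 : G))) a.coeff) (g, g) +
        (Finsupp.mapDomain (fun g : G => ((1 : G), g)) a.coeff) (g, g) := by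
    intro g
    have := congrArg (fun y : MonoidAlgebra R (G × G) => y.coeff (g, g)) h
    simp only [MonoidAlgebra.coeff_add, Finsupp.add_apply] at this
    refine Eq.trans ?_ this
    exact (Finsupp.mapDomain_apply hd a.coeff g).symm
  apply MonoidAlgebra.ext
  ext g
  by_cases hg : g = 1
  · subst hg
    have e := key 1
    rw [Finsupp.mapDomain_apply h1 a.coeff 1, Finsupp.mapDomain_apply h2 a.coeff 1] at e
    simpa using e
  · have e := key g
    rw [Finsupp.mapDomain_of_notMem_range, Finsupp.mapDomain_of_notMem_range, add_zero] at e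
    · simpa using e
    · rintro ⟨x, hx⟩
      exact hg (Prod.ext_iff.mp hx).1.symm
    · rintro ⟨x, hx⟩
      exact hg (Prod.ext_iff.mp hx).2.symm

theorem eq_zero_of_additive_natural {R : Type u} [CommRing R] {G : Type} [CommGroup G]
    (v : ∀ (B : Type u) [CommRing B] [Algebra R B], (G →* B) → B)
    (hnat : ∀ (B C : Type u) [CommRing B] [CommRing C] [Algebra R B] [Algebra R C]
      (φ : B →ₐ[R] C) (χ : G →* B), v C ((φ : B →* C).comp χ) = φ (v B χ))
    (hadd : ∀ (B : Type u) [CommRing B] [Algebra R B] (χ₁ χ₂ : G →* B),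
      v B (χ₁ * χ₂) = v B χ₁ + v B χ₂)
    (χ : G →* R) : v R χ = 0 := by
  let B₁ := MonoidAlgebra R G
  let B₂ := MonoidAlgebra R (G × G)
  let univ : G →* B₁ := MonoidAlgebra.of R G
  let a : B₁ := v B₁ univ
  have ha : a = 0 := by
    apply eq_zero_of_diag
    let δ : B₁ →ₐ[R] B₂ := MonoidAlgebra.mapDomainAlgHom R R
      (MonoidHom.prod (MonoidHom.id G) (MonoidHom.id G))
    let i₁ : B₁ →ₐ[R] B₂ := MonoidAlgebra.mapDomainAlgHom R R (MonoidHom.inl G G)
    let i₂ : B₁ →ₐ[R] B₂ := MonoidAlgebra.mapDomainAlgHom R R (MonoidHom.inr G G)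
    have hχ : ((δ : B₁ →* B₂).comp univ) = ((i₁ : B₁ →* B₂).comp univ) * ((i₂ : B₁ →* B₂).comp univ) := by
      refine MonoidHom.ext fun g => ?_
      change MonoidAlgebra.mapDomain (MonoidHom.prod (MonoidHom.id G) (MonoidHom.id G))
          (MonoidAlgebra.single g (1 : R)) =
        MonoidAlgebra.mapDomain (MonoidHom.inl G G) (MonoidAlgebra.single g (1 : R)) *
          MonoidAlgebra.mapDomain (MonoidHom.inr G G) (MonoidAlgebra.single g (1 : R))
      rw [MonoidAlgebra.mapDomain_single, MonoidAlgebra.mapDomain_single,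
        MonoidAlgebra.mapDomain_single, MonoidAlgebra.single_mul_single]
      simp
    have e := hadd B₂ ((i₁ : B₁ →* B₂).comp univ) ((i₂ : B₁ →* B₂).comp univ)
    rw [← hχ, hnat, hnat, hnat] at e
    exact e
  have hφ : ((MonoidAlgebra.lift R R G χ : B₁ →ₐ[R] R) : B₁ →* R).comp univ = χ := by
    refine MonoidHom.ext fun g => ?_
    exact MonoidAlgebra.lift_of χ g
  have e := hnat B₁ R (MonoidAlgebra.lift R R G χ) univ
  rw [hφ] at e
  rw [e]
  change (MonoidAlgebra.lift R R G χ) a = 0
  rw [ha, map_zero]

end Groth.Agent.Lib.Helper6.DS
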