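import Mathlib
import Groth.Prelude.Def_GmPts
import Groth.Prelude.Def_Red2
import Groth.Agent.Lib.Helper6.GaGm.BcGrp

/-!
# Points of the diagonalisable group `D_S(M)`: characters `M → Γ(T, O_T)ˣ`
-/

open CategoryTheory CategoryTheory.Limits MonoidalCategory CartesianMonoidalCategory MonObj
  AlgebraicGeometry Opposite
open scoped TensorProduct

namespace Groth.Agent.Lib.Helper6.DS

universe u

noncomputable section

attribute [-instance] ULift.module

open GaGm

/-- A morphism of monoid objects that is multiplicative and unital on points is a homomorphism. -/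
theorem isMonHom_of_pts {C : Type*} [Category C] [CartesianMonoidalCategory C] {X Y : C}
    [MonObj X] [MonObj Y] (f : X ⟶ Y) (h1 : (1 : 𝟙_ C ⟶ X) ≫ f = 1)
    (hmul : ∀ (T : C) (x y : T ⟶ X), (x * y) ≫ f = (x ≫ f) * (y ≫ f)) : IsMonHom f where
  one_hom := by
    rw [Hom.one_def, Hom.one_def, toUnit_unique (toUnit (𝟙_ C)) (𝟙 _), Category.id_comp,
      Category.id_comp] at h1
    exact h1
  mul_hom := by
    have h := hmul _ (fst X X) (snd X X)
    rw [Hom.mul_def, Hom.mul_def, lift_fst_snd, Category.id_comp, lift_fst_comp_snd_comp] at h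
    exact h

variable (M : Type) [AddCommGroup M]

/-- The coordinate ring `ℤ[M]` of `D(M)`. -/
abbrev AM : Type u := MonoidAlgebra (ULift.{u} ℤ) (Multiplicative M)

variable {M} {N : Type} [AddCommGroup N]

/-- Two ring maps out of `ℤ[M]` which agree on the monomials are equal. -/
theorem ringHom_ext_of {R : Type u} [CommRing R] {f g : AM.{u} M →+* R}
    (h : ∀ m : Multiplicative M, f (MonoidAlgebra.of _ _ m) = g (MonoidAlgebra.of _ _ m)) :
    f = g := by
  refine MonoidAlgebra.ringHom_ext (fun r => ?_) (fun m => h m)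
  have : MonoidAlgebra.single (1 : Multiplicative M) r = ((r.down : ℤ) : AM.{u} M) := by
    rcases r with ⟨r⟩
    change MonoidAlgebra.single 1 (ULift.up r) = _
    rw [MonoidAlgebra.intCast_def]
    rfl
  rw [this, map_intCast, map_intCast]

/-- The ring map `ℤ[M] → R` attached to a character. -/
def ringHomOfChr {R : Type u} [CommRing R] (χ : Multiplicative M →* R) : AM.{u} M →+* R :=
  MonoidAlgebra.liftNCRingHom
    ((Int.castRingHom R).comp (ULift.ringEquiv : ULift.{u} ℤ ≃+* ℤ).toRingHom) χ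
    (fun _ _ => Commute.all _ _)

theorem ringHomOfChr_of {R : Type u} [CommRing R] (χ : Multiplicative M →* R)
    (m : Multiplicative M) : ringHomOfChr χ (MonoidAlgebra.of _ _ m) = χ m := by
  simp [ringHomOfChr, MonoidAlgebra.liftNCRingHom_single]

variable {S : Scheme.{u}} {T T' : Over S}

/-- The ring map classified by a point of `D_S(M)`. -/
def homOfPt (x : T ⟶ Red.DS S M) : AM.{u} M →+* Γ(T.left, ⊤) :=
  (GaGm.homOfPt (fZ (AM.{u} M)) x).hom

/-- The character of a point of `D_S(M)`. -/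
def chr (x : T ⟶ Red.DS S M) : Multiplicative M →* Γ(T.left, ⊤) :=
  ((homOfPt x : AM.{u} M →+* Γ(T.left, ⊤)) : AM.{u} M →* Γ(T.left, ⊤)).comp
    (MonoidAlgebra.of _ _)

theorem chr_apply (x : T ⟶ Red.DS S M) (m : Multiplicative M) :
    chr x m = homOfPt x (MonoidAlgebra.of _ _ m) := rfl

theorem chr_injective : Function.Injective (chr (S := S) (T := T) (M := M)) := fun a b hab => by
  apply GaGm.homOfPt_injective (fZ (AM.{u} M))
  ext1
  exact ringHom_ext_of fun m => congrArg (fun χ : Multiplicative M →* Γ(T.left, ⊤) => χ m) hab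

/-- The point of `D_S(M)` with a given character. -/
def ptOfChr (χ : Multiplicative M →* Γ(T.left, ⊤)) : T ⟶ Red.DS S M :=
  GaGm.ptOfHom (fZ (AM.{u} M)) (CommRingCat.ofHom (ringHomOfChr χ))

theorem chr_ptOfChr (χ : Multiplicative M →* Γ(T.left, ⊤)) : chr (ptOfChr (S := S) χ) = χ := by
  refine MonoidHom.ext fun m => ?_
  rw [chr_apply, homOfPt, ptOfChr, GaGm.homOfPt_ptOfHom]
  exact ringHomOfChr_of χ m

theorem ptOfChr_chr (x : T ⟶ Red.DS S M) : ptOfChr (chr x) = x :=
  chr_injective (chr_ptOfChr _)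

theorem chr_comp (g : T' ⟶ T) (x : T ⟶ Red.DS S M) (m : Multiplicative M) :
    chr (g ≫ x) m = g.left.appTop (chr x m) := by
  have h := GaGm.homOfPt_comp (fZ (AM.{u} M)) g x
  exact congrArg (fun φ : CommRingCat.of (AM.{u} M) ⟶ Γ(T'.left, ⊤) =>
    φ.hom (MonoidAlgebra.of _ _ m)) h

theorem comul_of (m : Multiplicative M) :
    Coalgebra.comul (R := ULift.{u} ℤ) (MonoidAlgebra.of (ULift.{u} ℤ) _ m : AM.{u} M) =
      MonoidAlgebra.of _ _ m ⊗ₜ[ULift.{u} ℤ] MonoidAlgebra.of _ _ m := by
  rw [MonoidAlgebra.of_apply, MonoidAlgebra.comul_single]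
  simp

theorem chr_mul (x y : T ⟶ Red.DS S M) : chr (x * y) = chr x * chr y := by
  refine MonoidHom.ext fun m => ?_
  have h := GaGm.homOfPt_mul_apply (A := AM.{u} M) x y ({()} : Finset Unit)
    (fun _ => MonoidAlgebra.of _ _ m) (fun _ => MonoidAlgebra.of _ _ m)
    (MonoidAlgebra.of _ _ m) (by rw [Finset.sum_singleton]; exact comul_of m)
  rw [Finset.sum_singleton] at h
  exact h

theorem isUnit_chr (x : T ⟶ Red.DS S M) (m : Multiplicative M) : IsUnit (chr x m) :=
  (Group.isUnit m).map (chr x)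

theorem chr_one : chr (1 : T ⟶ Red.DS S M) = 1 := by
  refine MonoidHom.ext fun m => ?_
  have e : (1 : T ⟶ Red.DS S M) * 1 = 1 := _root_.mul_one (1 : T ⟶ Red.DS S M)
  have h := congrArg (fun χ : Multiplicative M →* Γ(T.left, ⊤) => χ m)
    (chr_mul (1 : T ⟶ Red.DS S M) 1)
  rw [e] at h
  change chr (1 : T ⟶ Red.DS S M) m = chr 1 m * chr 1 m at h
  have h2 : chr (1 : T ⟶ Red.DS S M) m * chr 1 m = chr (1 : T ⟶ Red.DS S M) m * 1 := by
    rw [← h, _root_.mul_one]
  exact (isUnit_chr _ m).mul_left_cancel h2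

end

end Groth.Agent.Lib.Helper6.DS
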