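import Mathlib
import Groth.Prelude.Def_GmPts
import Groth.Prelude.Def_Red2
import Groth.Agent.Lib.Helper6.DS.Pts

/-!
# The maps `D_S(φ)` on points
-/

open CategoryTheory CategoryTheory.Limits MonoidalCategory CartesianMonoidalCategory MonObj
  AlgebraicGeometry Opposite
open scoped TensorProduct

namespace Groth.Agent.Lib.Helper6.DS

universe u

noncomputable section

attribute [-instance] ULift.module

open GaGm

variable {M N : Type} [AddCommGroup M] [AddCommGroup N] {S : Scheme.{u}} {T T' : Over S}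

theorem chr_DSmap (φ : M →+ N) (x : T ⟶ Red.DS S N) (m : Multiplicative M) :
    chr (x ≫ Red.DSmap S φ) m = chr x (AddMonoidHom.toMultiplicative φ m) := by
  let ψ : CommRingCat.of (AM.{u} M) ⟶ CommRingCat.of (AM.{u} N) := CommRingCat.ofHom
    (MonoidAlgebra.mapDomainAlgHom (ULift.{u} ℤ) (ULift.{u} ℤ)
      (AddMonoidHom.toMultiplicative φ)).toRingHom
  have h1 : GaGm.specPt (fZ (AM.{u} M)) (x ≫ Red.DSmap S φ) =
      GaGm.specPt (fZ (AM.{u} N)) x ≫ Spec.map ψ := by
    change (x ≫ Red.DSmap S φ).left ≫ pullback.fst _ _ = _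
    rw [Over.comp_left, Category.assoc]
    have h2 := GmPts.pullback_map_left_fst (S := S) (Red.diagMap (ULift.{u} ℤ) φ)
    rw [Red.DSmap]
    erw [h2]
    rfl
  change (GaGm.specPt (fZ (AM.{u} M)) (x ≫ Red.DSmap S φ)).appTop
    ((Scheme.ΓSpecIso _).inv (MonoidAlgebra.of _ _ m)) = _
  rw [h1, GmPts.appTop_comp_apply, specMap_appTop_ΓSpecIso_inv]
  have h3 : ψ (MonoidAlgebra.of _ _ m) = MonoidAlgebra.of _ _ (AddMonoidHom.toMultiplicative φ m) := by
    change MonoidAlgebra.mapDomain _ (MonoidAlgebra.single m 1) = _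
    rw [MonoidAlgebra.mapDomain_single]
    rfl
  rw [h3]
  rfl

instance isMonHom_DSmap (φ : M →+ N) : IsMonHom (Red.DSmap S φ) := by
  refine isMonHom_of_pts _ ?_ ?_
  · apply chr_injective
    refine MonoidHom.ext fun m => ?_
    rw [chr_DSmap, chr_one, chr_one]
    rfl
  · intro T x y
    apply chr_injective
    refine MonoidHom.ext fun m => ?_
    rw [chr_DSmap, chr_mul, chr_mul]
    change _ = chr (x ≫ Red.DSmap S φ) m * chr (y ≫ Red.DSmap S φ) m
    rw [chr_DSmap, chr_DSmap]
    rfl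

theorem chr_pow (x : T ⟶ Red.DS S M) (k : ℕ) : chr (x ^ k) = chr x ^ k := by
  induction k with
  | zero => rw [pow_zero, pow_zero, chr_one]
  | succ k ih => rw [pow_succ, pow_succ, chr_mul, ih]

theorem chr_inv_mul (x : T ⟶ Red.DS S M) : chr x⁻¹ * chr x = 1 := by
  rw [← chr_mul, inv_mul_cancel, chr_one]

end

end Groth.Agent.Lib.Helper6.DS
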