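import Mathlib
import Groth.Prelude.Def_GmPts
import Groth.Prelude.Def_Red2
import Groth.Agent.Lib.Helper6.DS.Maps
import Groth.Agent.Lib.Helper6.DS.AddChar
import Groth.Agent.Lib.Helper6.GaGm.GaGrp

/-!
# Homomorphisms `D_U(M) → 𝔾_a` are trivial
-/

open CategoryTheory CategoryTheory.Limits MonoidalCategory CartesianMonoidalCategory MonObj
  AlgebraicGeometry Opposite

namespace Groth.Agent.Lib.Helper6.DS

universe u

noncomputable section

attribute [-instance] ULift.module

open GaGm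

variable {M : Type} [AddCommGroup M] {U : Scheme.{u}}

section Test

variable (R : Type u) [CommRing R] (t : Spec (CommRingCat.of R) ⟶ U)

/-- The test object `Spec B → Spec R → U`. -/
abbrev tObj (B : Type u) [CommRing B] [Algebra R B] : Over U :=
  Over.mk (Spec.map (CommRingCat.ofHom (algebraMap R B)) ≫ t)

variable {R}

/-- The morphism of test objects of an algebra map. -/
def tMap {B C : Type u} [CommRing B] [CommRing C] [Algebra R B] [Algebra R C] (φ : B →ₐ[R] C) :
    tObj R t C ⟶ tObj R t B :=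
  Over.homMk (Spec.map (CommRingCat.ofHom φ.toRingHom)) (by
    change Spec.map _ ≫ Spec.map _ ≫ t = Spec.map _ ≫ t
    rw [← Category.assoc, ← Spec.map_comp, ← CommRingCat.ofHom_comp, AlgHom.toRingHom_eq_coe,
      AlgHom.comp_algebraMap])

/-- A character with values in `B`, as a character with values in the functions of `Spec B`. -/
def liftChr {B : Type u} [CommRing B] (χ : Multiplicative M →* B) :
    Multiplicative M →* Γ(Spec (CommRingCat.of B), ⊤) :=
  ((Scheme.ΓSpecIso (CommRingCat.of B)).inv.hom : B →* _).comp χ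

theorem liftChr_mul {B : Type u} [CommRing B] (χ₁ χ₂ : Multiplicative M →* B) :
    liftChr (χ₁ * χ₂) = liftChr χ₁ * liftChr χ₂ := by
  refine MonoidHom.ext fun m => ?_
  change (Scheme.ΓSpecIso (CommRingCat.of B)).inv.hom (χ₁ m * χ₂ m) = _
  rw [map_mul]
  rfl

variable (R) in
/-- The function attached to a character by a morphism `u : D_U(M) → 𝔾_a`. -/
def vFun (u : Red.DS U M ⟶ Red.Ga U) (B : Type u) [CommRing B] [Algebra R B]
    (χ : Multiplicative M →* B) : B :=
  (Scheme.ΓSpecIso (CommRingCat.of B)).hom.hom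
    (fnOfPt (ptOfChr (T := tObj R t B) (liftChr χ) ≫ u))

theorem vFun_add (u : Red.DS U M ⟶ Red.Ga U) [IsMonHom u] (B : Type u) [CommRing B] [Algebra R B]
    (χ₁ χ₂ : Multiplicative M →* B) :
    vFun R t u B (χ₁ * χ₂) = vFun R t u B χ₁ + vFun R t u B χ₂ := by
  have h1 : ptOfChr (S := U) (T := tObj R t B) (liftChr (χ₁ * χ₂)) =
      ptOfChr (liftChr χ₁) * ptOfChr (liftChr χ₂) := by
    apply chr_injective
    rw [chr_mul, chr_ptOfChr, chr_ptOfChr, chr_ptOfChr, liftChr_mul]
  have h2 := MonObj.mul_comp (ptOfChr (S := U) (T := tObj R t B) (liftChr χ₁))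
    (ptOfChr (liftChr χ₂)) u
  unfold vFun
  rw [h1, h2, fnOfPt_mul, map_add]

theorem vFun_nat (u : Red.DS U M ⟶ Red.Ga U) {B C : Type u} [CommRing B] [CommRing C]
    [Algebra R B] [Algebra R C] (φ : B →ₐ[R] C) (χ : Multiplicative M →* B) :
    vFun R t u C ((φ : B →* C).comp χ) = φ (vFun R t u B χ) := by
  have h1 : ptOfChr (S := U) (T := tObj R t C) (liftChr ((φ : B →* C).comp χ)) =
      tMap t φ ≫ ptOfChr (liftChr χ) := by
    apply chr_injective
    refine MonoidHom.ext fun m => ?_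
    rw [chr_comp, chr_ptOfChr, chr_ptOfChr]
    exact (GaGm.specMap_appTop_ΓSpecIso_inv (CommRingCat.ofHom φ.toRingHom) (χ m)).symm
  unfold vFun
  rw [h1, Category.assoc, fnOfPt_comp]
  have h2 := Scheme.ΓSpecIso_naturality (CommRingCat.ofHom φ.toRingHom)
  exact congrArg (fun ψ : Γ(Spec (CommRingCat.of B), ⊤) ⟶ CommRingCat.of C =>
    ψ.hom (fnOfPt (ptOfChr (T := tObj R t B) (liftChr χ) ≫ u))) h2

theorem fnOfPt_comp_eq_zero (u : Red.DS U M ⟶ Red.Ga U) [IsMonHom u]
    (y : tObj R t R ⟶ Red.DS U M) : fnOfPt (y ≫ u) = 0 := by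
  have key := eq_zero_of_additive_natural (R := R) (G := Multiplicative M)
    (fun B _ _ χ => vFun R t u B χ)
    (fun B C _ _ _ _ φ χ => vFun_nat t u φ χ)
    (fun B _ _ χ₁ χ₂ => vFun_add t u B χ₁ χ₂)
    (((Scheme.ΓSpecIso (CommRingCat.of R)).hom.hom :
      Γ(Spec (CommRingCat.of R), ⊤) →* R).comp (chr y))
  have h1 : liftChr (((Scheme.ΓSpecIso (CommRingCat.of R)).hom.hom :
      Γ(Spec (CommRingCat.of R), ⊤) →* R).comp (chr y)) =
      chr y := by
    refine MonoidHom.ext fun m => ?_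
    change (Scheme.ΓSpecIso (CommRingCat.of R)).inv.hom
      ((Scheme.ΓSpecIso (CommRingCat.of R)).hom.hom (chr y m)) = _
    exact congrArg (fun ψ : Γ(Spec (CommRingCat.of R), ⊤) ⟶ Γ(Spec (CommRingCat.of R), ⊤) =>
      ψ.hom (chr y m)) (Scheme.ΓSpecIso (CommRingCat.of R)).hom_inv_id
  unfold vFun at key
  rw [h1, ptOfChr_chr] at key
  have h2 := congrArg (Scheme.ΓSpecIso (CommRingCat.of R)).inv.hom key
  rw [map_zero] at h2
  refine Eq.trans ?_ h2
  exact (congrArg (fun ψ : Γ(Spec (CommRingCat.of R), ⊤) ⟶ Γ(Spec (CommRingCat.of R), ⊤) =>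
      ψ.hom (fnOfPt (y ≫ u))) (Scheme.ΓSpecIso (CommRingCat.of R)).hom_inv_id).symm

end Test

/-- Every homomorphism from a diagonalisable group to the additive group is trivial. -/
theorem hom_DS_Ga_eq_one (u : Red.DS U M ⟶ Red.Ga U) [IsMonHom u] : u = 1 := by
  apply fnOfPt_injective
  rw [fnOfPt_one]
  refine Scheme.zero_of_zero_cover _ (Red.DS U M).left.affineOpenCover.openCover
    fun i => ?_
  let 𝒰 := (Red.DS U M).left.affineOpenCover
  let R : Type u := 𝒰.X i
  let t : Spec (CommRingCat.of R) ⟶ U := 𝒰.f i ≫ (Red.DS U M).hom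
  let y : tObj R t R ⟶ Red.DS U M := Over.homMk (𝒰.f i) (by
    change 𝒰.f i ≫ (Red.DS U M).hom = Spec.map (CommRingCat.ofHom (algebraMap R R)) ≫ t
    have : CommRingCat.ofHom (algebraMap R R) = 𝟙 (CommRingCat.of R) := rfl
    rw [this, Spec.map_id, Category.id_comp])
  have h := fnOfPt_comp_eq_zero t u y
  rw [fnOfPt_comp] at h
  exact h

end

end Groth.Agent.Lib.Helper6.DS
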