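import Mathlib
import Groth.Prelude.Def_Red

/-!
# Points of a base change `G ×_S S'` and the group law
-/

open CategoryTheory CategoryTheory.Limits MonoidalCategory CartesianMonoidalCategory MonObj
  AlgebraicGeometry Opposite

namespace Groth.Agent.Lib.Helper6.DS

universe u

noncomputable section

variable {S S' : Scheme.{u}} (f : S' ⟶ S) {G : Over S} {T T' : Over S'}

/-- The point of `G` over `S` underlying a point of the base change `G ×_S S'`. -/
def down (x : T ⟶ Red.bc f G) : Over.mk (T.hom ≫ f) ⟶ G :=
  Over.homMk (x.left ≫ pullback.fst G.hom f) (by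
    have h := Over.w x
    change x.left ≫ pullback.snd G.hom f = T.hom at h
    change (x.left ≫ pullback.fst G.hom f) ≫ G.hom = T.hom ≫ f
    rw [Category.assoc, pullback.condition, ← Category.assoc, h])

theorem down_left (x : T ⟶ Red.bc f G) : (down f x).left = x.left ≫ pullback.fst G.hom f := rfl

theorem down_injective : Function.Injective (down f (G := G) (T := T)) := fun a b hab => by
  ext1
  apply pullback.hom_ext
  · exact congrArg (fun z => z.left) hab
  · have ha := Over.w a
    have hb := Over.w b
    change a.left ≫ pullback.snd G.hom f = T.hom at ha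
    change b.left ≫ pullback.snd G.hom f = T.hom at hb
    rw [ha, hb]

theorem pullback_map_left_fst {X Y : Over S} (g : X ⟶ Y) :
    ((Over.pullback f).map g).left ≫ pullback.fst Y.hom f = pullback.fst X.hom f ≫ g.left := by
  dsimp only [Over.pullback]
  exact pullback.lift_fst _ _ _

variable [GrpObj G]

/-- The pair of two points, as a map to the product over `S`. -/
def pairPt (x y : T ⟶ Red.bc f G) : T.left ⟶ (G ⊗ G).left :=
  (lift x y).left ≫ (Functor.LaxMonoidal.μ (Over.pullback f) G G).left ≫
    pullback.fst (G ⊗ G).hom f

theorem down_mul_left (x y : T ⟶ Red.bc f G) :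
    (x * y).left ≫ pullback.fst G.hom f = pairPt f x y ≫ μ[G].left := by
  have h1 : x * y = lift x y ≫ μ[Red.bc f G] := Hom.mul_def x y
  have h2 : μ[Red.bc f G] =
      Functor.LaxMonoidal.μ (Over.pullback f) G G ≫ (Over.pullback f).map μ[G] := rfl
  have h3 := pullback_map_left_fst f μ[G]
  rw [pairPt, h1, h2, Over.comp_left, Over.comp_left]
  simp only [Category.assoc]
  exact _ ≫= (_ ≫= h3)

theorem pairPt_fst (x y : T ⟶ Red.bc f G) :
    pairPt f x y ≫ pullback.fst G.hom G.hom = x.left ≫ pullback.fst G.hom f := by
  rw [pairPt, Category.assoc, Category.assoc, Over.μ_pullback_left_fst_fst, ← Category.assoc]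
  congr 1
  rw [← Over.fst_left, ← Over.comp_left, lift_fst]

theorem pairPt_snd (x y : T ⟶ Red.bc f G) :
    pairPt f x y ≫ pullback.snd G.hom G.hom = y.left ≫ pullback.fst G.hom f := by
  rw [pairPt, Category.assoc, Category.assoc, Over.μ_pullback_left_fst_snd, ← Category.assoc]
  congr 1
  rw [← Over.snd_left, ← Over.comp_left, lift_snd]

theorem down_mul (x y : T ⟶ Red.bc f G) : down f (x * y) = down f x * down f y := by
  ext1
  rw [down_left, down_mul_left, Hom.mul_def, Over.comp_left]
  congr 1
  apply pullback.hom_ext
  · rw [pairPt_fst]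
    have : (lift (down f x) (down f y)).left ≫ pullback.fst G.hom G.hom =
        (lift (down f x) (down f y) ≫ fst G G).left := by
      rw [Over.comp_left, Over.fst_left]
    rw [this, lift_fst, down_left]
  · rw [pairPt_snd]
    have : (lift (down f x) (down f y)).left ≫ pullback.snd G.hom G.hom =
        (lift (down f x) (down f y) ≫ snd G G).left := by
      rw [Over.comp_left, Over.snd_left]
    rw [this, lift_snd, down_left]

theorem down_one : down f (1 : T ⟶ Red.bc f G) = 1 := by
  have h := down_mul f (1 : T ⟶ Red.bc f G) 1
  rw [_root_.mul_one (1 : T ⟶ Red.bc f G)] at h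
  exact mul_eq_left.mp h.symm

end

end Groth.Agent.Lib.Helper6.DS
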