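import Mathlib
import Groth.Prelude.Def_GmPts
import Groth.Prelude.Def_Red2
import Groth.Agent.Lib.Helper6.DS.Maps
import Groth.Agent.Lib.Helper6.DS.ExactGen

/-!
# `D_S(φ)` is a closed immersion for surjective `φ`; quotients `ℤ/r` of finitely generated groups
-/

open CategoryTheory CategoryTheory.Limits MonoidalCategory CartesianMonoidalCategory MonObj
  AlgebraicGeometry Opposite

namespace Groth.Agent.Lib.Helper6.DS

universe u

noncomputable section

attribute [-instance] ULift.module

variable {M N : Type} [AddCommGroup M] [AddCommGroup N] {S : Scheme.{u}}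

theorem isClosedImmersion_DSmap (φ : M →+ N) (hφ : Function.Surjective φ) :
    IsClosedImmersion (Red.DSmap S φ).left := by
  refine prop_pullback_map _ @IsClosedImmersion _ ?_
  change IsClosedImmersion (Spec.map (CommRingCat.ofHom
    (MonoidAlgebra.mapDomainAlgHom (ULift.{u} ℤ) (ULift.{u} ℤ)
      (AddMonoidHom.toMultiplicative φ)).toRingHom))
  apply IsClosedImmersion.spec_of_surjective
  intro y
  induction y using MonoidAlgebra.induction_linear with
  | zero => exact ⟨0, map_zero _⟩
  | add x y hx hy =>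
    obtain ⟨a, ha⟩ := hx
    obtain ⟨b, hb⟩ := hy
    exact ⟨a + b, by rw [map_add, ha, hb]⟩
  | single g r =>
    obtain ⟨m, hm⟩ := hφ (Multiplicative.toAdd g)
    refine ⟨MonoidAlgebra.single (Multiplicative.ofAdd m) r, ?_⟩
    change MonoidAlgebra.mapDomain _ (MonoidAlgebra.single (Multiplicative.ofAdd m) r) = _
    rw [MonoidAlgebra.mapDomain_single]
    have h1 : AddMonoidHom.toMultiplicative φ (Multiplicative.ofAdd m) = g := by
      change Multiplicative.ofAdd (φ m) = g
      rw [hm]
      rfl
    rw [h1]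

/-- A non-trivial finitely generated commutative group has a quotient of prime order. -/
theorem exists_surjective_zmod (M : Type) [AddCommGroup M] [AddGroup.FG M] [Nontrivial M] :
    ∃ (r : ℕ) (_ : r.Prime) (φ : M →+ ZMod r), Function.Surjective φ := by
  have : Module.Finite ℤ M := Module.Finite.iff_addGroup_fg.mpr inferInstance
  obtain ⟨N, hN⟩ := IsCoatomic.exists_coatom (Submodule ℤ M)
  have hs : IsSimpleModule ℤ (M ⧸ N) := isSimpleModule_iff_isCoatom.mpr hN
  obtain ⟨I, hI, ⟨e⟩⟩ := isSimpleModule_iff_quot_maximal.mp hs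
  obtain ⟨g, rfl⟩ := (IsPrincipalIdealRing.principal I).principal
  have hI0 : Ideal.span {g} ≠ ⊥ := Ring.ne_bot_of_isMaximal_of_not_isField hI Int.not_isField
  have hg0 : g ≠ 0 := by
    rintro rfl
    exact hI0 (by simp)
  have hgp : Prime g := (Ideal.span_singleton_prime hg0).mp hI.isPrime
  refine ⟨g.natAbs, Int.prime_iff_natAbs_prime.mp hgp, ?_, ?_⟩
  · exact ((Int.quotientSpanEquivZMod g).toAddEquiv.toAddMonoidHom.comp
      e.toAddEquiv.toAddMonoidHom).comp (N.mkQ.toAddMonoidHom)
  · intro z
    obtain ⟨y, hy⟩ := (Int.quotientSpanEquivZMod g).surjective z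
    obtain ⟨x, hx⟩ := e.surjective y
    obtain ⟨m, hm⟩ := N.mkQ_surjective x
    exact ⟨m, by
      change (Int.quotientSpanEquivZMod g) (e (N.mkQ m)) = z
      rw [hm, hx, hy]⟩

end

end Groth.Agent.Lib.Helper6.DS
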