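import Mathlib

/-!
# A global function which vanishes on a flat covering family vanishes
-/

open CategoryTheory CategoryTheory.Limits AlgebraicGeometry Opposite

namespace Groth.Agent.Lib.Helper6.DS

universe u

set_option backward.isDefEq.respectTransparency.types false in
theorem stalkMap_injective_of_flat {X Y : Scheme.{u}} (f : X ⟶ Y) [Flat f] (x : X) :
    Function.Injective (f.stalkMap x).hom := by
  algebraize [(f.stalkMap x).hom]
  have : Module.FaithfullyFlat (Y.presheaf.stalk (f x)) (X.presheaf.stalk x) :=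
    @Module.FaithfullyFlat.of_flat_of_isLocalHom _ _ _ _ _ _ _
      (Flat.stalkMap f x) (f.toLRSHom.prop x)
  exact ‹RingHom.FaithfullyFlat _›.injective

theorem eq_zero_of_flat_cover {X : Scheme.{u}} (a : Γ(X, ⊤))
    (h : ∀ x : X, ∃ (Y : Scheme.{u}) (p : Y ⟶ X) (_ : Flat p) (y : Y),
      p y = x ∧ p.appTop a = 0) : a = 0 := by
  refine TopCat.Presheaf.section_ext X.sheaf ⊤ a 0 fun x hx => ?_
  obtain ⟨Y, p, hp, y, rfl, hpa⟩ := h x
  apply stalkMap_injective_of_flat p y
  have h1 := Scheme.Hom.germ_stalkMap_apply p ⊤ y hx a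
  have h2 : (Y.presheaf.germ (p ⁻¹ᵁ ⊤) y hx) (p.appTop a) = 0 :=
    (congrArg _ hpa).trans (map_zero _)
  have h3 : (X.presheaf.germ ⊤ (p y) hx) (0 : Γ(X, ⊤)) = 0 := map_zero _
  have h4 : (p.stalkMap y).hom ((X.presheaf.germ ⊤ (p y) hx) (0 : Γ(X, ⊤))) = 0 :=
    (congrArg _ h3).trans (map_zero _)
  exact (h1.trans h2).trans h4.symm

end Groth.Agent.Lib.Helper6.DS
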