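import Mathlib

/-!
# `z ↦ zⁿ` on `R[z, z⁻¹]` is finite free
-/

namespace Groth.Agent.Lib.Helper6.DS

open MonoidAlgebra

noncomputable section

variable (R : Type*) [CommRing R] (n : ℕ)

/-- The `n`-th power endomorphism of `ℤ` written multiplicatively. -/
def powHom : Multiplicative ℤ →* Multiplicative ℤ :=
  AddMonoidHom.toMultiplicative (zmultiplesHom ℤ (n : ℤ))

theorem powHom_apply (k : ℤ) : powHom n (Multiplicative.ofAdd k) = Multiplicative.ofAdd (k * n) := by
  change Multiplicative.ofAdd (k • (n : ℤ)) = _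
  rw [smul_eq_mul]

/-- The ring map `z ↦ zⁿ`. -/
def psi : MonoidAlgebra R (Multiplicative ℤ) →+* MonoidAlgebra R (Multiplicative ℤ) :=
  (MonoidAlgebra.mapDomainAlgHom R R
    (AddMonoidHom.toMultiplicative (zmultiplesHom ℤ (n : ℤ)))).toRingHom

theorem psi_apply (a : MonoidAlgebra R (Multiplicative ℤ)) :
    psi R n a = MonoidAlgebra.mapDomain (powHom n) a := rfl

/-- A copy of `R[z, z⁻¹]`, as an algebra over `R[z, z⁻¹]` through `z ↦ zⁿ`. -/
def Cp (R : Type*) [CommRing R] (_n : ℕ) : Type _ := MonoidAlgebra R (Multiplicative ℤ)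

instance : CommRing (Cp R n) := inferInstanceAs (CommRing (MonoidAlgebra R (Multiplicative ℤ)))

instance : Algebra (MonoidAlgebra R (Multiplicative ℤ)) (Cp R n) := (psi R n).toAlgebra

theorem algebraMap_Cp : algebraMap (MonoidAlgebra R (Multiplicative ℤ)) (Cp R n) = psi R n := rfl

variable {n} (hn : 0 < n)

include hn in
theorem powHom_injective : Function.Injective (powHom n) := by
  intro a b hab
  have h := congrArg Multiplicative.toAdd hab
  rw [← ofAdd_toAdd a, ← ofAdd_toAdd b, powHom_apply, powHom_apply] at h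
  have hn' : (n : ℤ) ≠ 0 := by exact_mod_cast hn.ne'
  have := mul_right_cancel₀ hn' h
  rw [← ofAdd_toAdd a, ← ofAdd_toAdd b, this]

/-- The candidate basis `1, z, …, z^{n-1}`. -/
def bas (R : Type*) [CommRing R] {n : ℕ} (i : Fin n) : Cp R n :=
  (MonoidAlgebra.single (Multiplicative.ofAdd (i : ℤ)) 1 : MonoidAlgebra R (Multiplicative ℤ))

theorem smul_bas (a : MonoidAlgebra R (Multiplicative ℤ)) (i : Fin n) :
    a • bas R i = (MonoidAlgebra.mapDomain (powHom n) a *
      MonoidAlgebra.single (Multiplicative.ofAdd (i : ℤ)) 1 : MonoidAlgebra R (Multiplicative ℤ)) :=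
  rfl

/-- The index map `q ↦ q n + i`. -/
def idx (i : Fin n) (g : Multiplicative ℤ) : Multiplicative ℤ :=
  powHom n g * Multiplicative.ofAdd (i : ℤ)

include hn in
theorem idx_injective (i : Fin n) : Function.Injective (idx (n := n) i) := fun a b hab =>
  powHom_injective hn (mul_right_cancel hab)

include hn in
theorem coeff_smul_bas (a : MonoidAlgebra R (Multiplicative ℤ)) (i j : Fin n)
    (g : Multiplicative ℤ) :
    (MonoidAlgebra.mapDomain (powHom n) a *
      MonoidAlgebra.single (Multiplicative.ofAdd (j : ℤ)) (1 : R)).coeff (idx i g) =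
      if i = j then a.coeff g else 0 := by
  rw [MonoidAlgebra.coeff_mul_single_apply, _root_.mul_one]
  split_ifs with hij
  · subst hij
    have : idx i g * (Multiplicative.ofAdd (i : ℤ))⁻¹ = powHom n g := by
      rw [idx, mul_inv_cancel_right]
    rw [this]
    exact Finsupp.mapDomain_apply (powHom_injective hn) a.coeff g
  · apply Finsupp.mapDomain_of_notMem_range
    rintro ⟨h, hh⟩
    apply hij
    have h1 := congrArg Multiplicative.toAdd hh
    rw [← ofAdd_toAdd h, ← ofAdd_toAdd g, powHom_apply, idx, powHom_apply] at h1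
    simp only [toAdd_mul, toAdd_ofAdd, toAdd_inv] at h1
    -- h.toAdd * n = g.toAdd * n + i - j
    have h2 : ((i : ℕ) : ℤ) - (j : ℕ) = (Multiplicative.toAdd h - Multiplicative.toAdd g) * n := by
      linarith
    have hi := i.isLt
    have hj := j.isLt
    have h3 : (n : ℤ) ∣ ((i : ℕ) : ℤ) - (j : ℕ) := ⟨_, by rw [h2, mul_comm]⟩
    have h4 : ((i : ℕ) : ℤ) - (j : ℕ) = 0 := by
      apply Int.eq_zero_of_abs_lt_dvd h3
      rw [abs_lt]
      constructor <;> omega
    apply Fin.ext
    omega

include hn in
theorem linearIndependent_bas :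
    LinearIndependent (MonoidAlgebra R (Multiplicative ℤ)) (bas R (n := n)) := by
  rw [Fintype.linearIndependent_iff]
  intro c hc i
  apply MonoidAlgebra.ext
  ext g
  have h1 := congrArg (fun y : MonoidAlgebra R (Multiplicative ℤ) => y.coeff (idx i g)) hc
  simp only [smul_bas] at h1
  change (∑ j, (MonoidAlgebra.mapDomain (powHom n) (c j) *
      MonoidAlgebra.single (Multiplicative.ofAdd ((j : ℕ) : ℤ)) (1 : R))).coeff (idx i g) = 0 at h1
  rw [MonoidAlgebra.coeff_sum, Finset.sum_apply'] at h1
  simp only [coeff_smul_bas R hn] at h1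
  rw [Finset.sum_ite_eq Finset.univ i (fun j => (c j).coeff g)] at h1
  simpa using h1

include hn in
theorem span_bas :
    ⊤ ≤ Submodule.span (MonoidAlgebra R (Multiplicative ℤ)) (Set.range (bas R (n := n))) := by
  intro y _
  have hn' : (0 : ℤ) < n := by exact_mod_cast hn
  induction y using MonoidAlgebra.induction_linear with
  | zero => exact Submodule.zero_mem _
  | add x y hx hy => exact Submodule.add_mem _ (hx trivial) (hy trivial)
  | single g r =>
    let k : ℤ := Multiplicative.toAdd g
    have hk0 : 0 ≤ k % n := Int.emod_nonneg k hn'.ne'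
    have hk1 : k % n < n := Int.emod_lt_of_pos k hn'
    let i : Fin n := ⟨(k % n).toNat, by omega⟩
    have hi : ((i : ℕ) : ℤ) = k % n := Int.toNat_of_nonneg hk0
    have key : (MonoidAlgebra.single g r : MonoidAlgebra R (Multiplicative ℤ)) =
        (MonoidAlgebra.single (Multiplicative.ofAdd (k / n)) r :
          MonoidAlgebra R (Multiplicative ℤ)) • bas R i := by
      rw [smul_bas, MonoidAlgebra.mapDomain_single, MonoidAlgebra.single_mul_single, _root_.mul_one,
        powHom_apply, ← ofAdd_add, hi, Int.ediv_mul_add_emod]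
      rfl
    rw [key]
    exact Submodule.smul_mem _ _ (Submodule.subset_span ⟨i, rfl⟩)

/-- The basis `1, z, …, z^{n-1}`. -/
def basisCp : Module.Basis (Fin n) (MonoidAlgebra R (Multiplicative ℤ)) (Cp R n) :=
  Module.Basis.mk (linearIndependent_bas R hn) (span_bas R hn)

include hn in
theorem free_Cp : Module.Free (MonoidAlgebra R (Multiplicative ℤ)) (Cp R n) :=
  Module.Free.of_basis (basisCp R hn)

include hn in
theorem finite_Cp : Module.Finite (MonoidAlgebra R (Multiplicative ℤ)) (Cp R n) :=
  Module.Finite.of_basis (basisCp R hn)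

include hn in
theorem faithfullyFlat_psi [Nontrivial R] : (psi R n).FaithfullyFlat := by
  have := free_Cp R hn
  have : Nontrivial (Cp R n) :=
    inferInstanceAs (Nontrivial (MonoidAlgebra R (Multiplicative ℤ)))
  have h : Module.FaithfullyFlat (MonoidAlgebra R (Multiplicative ℤ)) (Cp R n) := inferInstance
  exact (RingHom.faithfullyFlat_algebraMap_iff (S := Cp R n)).mpr h

include hn in
theorem finitePresentation_psi : (psi R n).FinitePresentation := by
  have := free_Cp R hn
  have := finite_Cp R hn
  have : Module.FinitePresentation (MonoidAlgebra R (Multiplicative ℤ)) (Cp R n) :=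
    Module.finitePresentation_of_projective _ _
  have h : Algebra.FinitePresentation (MonoidAlgebra R (Multiplicative ℤ)) (Cp R n) :=
    inferInstance
  exact (RingHom.finitePresentation_algebraMap (B := Cp R n)).mpr h

end

end Groth.Agent.Lib.Helper6.DS
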