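import Mathlib
import Groth.Prelude.Def_NonAbH2
import Groth.Prelude.Def_Red2
import Groth.Agent.Lib.Helper6.DS.Maps
import Groth.Agent.Lib.Helper6.DS.ExactGen
import Groth.Agent.Lib.Helper6.DS.PowFree

/-!
# The Kummer sequence `1 → μ_n → 𝔾_m → 𝔾_m → 1`
-/

open CategoryTheory CategoryTheory.Limits MonoidalCategory CartesianMonoidalCategory MonObj
  AlgebraicGeometry Opposite

namespace Groth.Agent.Lib.Helper6.DS

universe u

noncomputable section

attribute [-instance] ULift.module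

open GaGm

/-- The character of `ℤ/n` attached to an `n`-th root of unity. -/
def chrOfRoot {R : Type*} [CommRing R] (n : ℕ) (c : Rˣ) (hc : c ^ n = 1) :
    Multiplicative (ZMod n) →* R :=
  (Units.coeHom R).comp (AddMonoidHom.toMultiplicativeLeft
    (ZMod.lift n ⟨zmultiplesHom (Additive Rˣ) (Additive.ofMul c), by
      change (n : ℤ) • Additive.ofMul c = 0
      rw [natCast_zsmul, ← ofMul_pow, hc]
      rfl⟩))

theorem chrOfRoot_intCast {R : Type*} [CommRing R] (n : ℕ) (c : Rˣ) (hc : c ^ n = 1) (k : ℤ) :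
    chrOfRoot n c hc (Multiplicative.ofAdd (k : ZMod n)) = ((c ^ k : Rˣ) : R) := by
  unfold chrOfRoot
  simp only [MonoidHom.coe_comp, Function.comp_apply, AddMonoidHom.coe_toMultiplicativeLeft,
    toAdd_ofAdd, ZMod.lift_coe]
  rfl

variable {M : Type} [AddCommGroup M] {S : Scheme.{u}} {T : Over S}

instance isMonHom_chi (m : M) : IsMonHom (Red.chi S m) := by
  unfold Red.chi
  infer_instance

theorem chr_chi (m : M) (x : T ⟶ Red.DS S M) (k : Multiplicative ℤ) :
    chr (x ≫ Red.chi S m) k = chr x (AddMonoidHom.toMultiplicative (zmultiplesHom M m) k) :=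
  chr_DSmap _ x k

variable (n : ℕ)

theorem kummer_comp : Red.DSmap S (Int.castAddHom (ZMod n)) ≫ Red.chi S (n : ℤ) = 1 := by
  apply chr_injective
  refine MonoidHom.ext fun k => ?_
  rw [chr_chi, chr_one]
  have h1 := chr_DSmap (S := S) (Int.castAddHom (ZMod n)) (𝟙 (Red.DS S (ZMod n)))
    (AddMonoidHom.toMultiplicative (zmultiplesHom ℤ (n : ℤ)) k)
  rw [Category.id_comp] at h1
  rw [h1]
  have h2 : AddMonoidHom.toMultiplicative (Int.castAddHom (ZMod n))
      (AddMonoidHom.toMultiplicative (zmultiplesHom ℤ (n : ℤ)) k) = 1 := by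
    change Multiplicative.ofAdd (((Multiplicative.toAdd k • (n : ℤ) : ℤ)) : ZMod n) = 1
    rw [smul_eq_mul, Int.cast_mul, Int.cast_natCast, ZMod.natCast_self, MulZeroClass.mul_zero]
    rfl
  rw [h2, map_one]
  rfl

theorem kummer_mono (z z' : T ⟶ Red.DS S (ZMod n))
    (h : z ≫ Red.DSmap S (Int.castAddHom (ZMod n)) = z' ≫ Red.DSmap S (Int.castAddHom (ZMod n))) :
    z = z' := by
  apply chr_injective
  refine MonoidHom.ext fun m => ?_
  obtain ⟨k, hk⟩ := ZMod.intCast_surjective (Multiplicative.toAdd m)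
  have h1 := chr_DSmap (S := S) (Int.castAddHom (ZMod n)) z (Multiplicative.ofAdd k)
  have h2 := chr_DSmap (S := S) (Int.castAddHom (ZMod n)) z' (Multiplicative.ofAdd k)
  rw [h] at h1
  have h3 : AddMonoidHom.toMultiplicative (Int.castAddHom (ZMod n)) (Multiplicative.ofAdd k) = m := by
    change Multiplicative.ofAdd ((k : ZMod n)) = m
    rw [hk]
    rfl
  rw [h3] at h1 h2
  rw [← h1, ← h2]

theorem kummer_ker (w : T ⟶ Red.Gm S) (hw : w ≫ Red.chi S (n : ℤ) = 1) :
    ∃ z : T ⟶ Red.DS S (ZMod n), z ≫ Red.DSmap S (Int.castAddHom (ZMod n)) = w := by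
  let cu : (Γ(T.left, ⊤))ˣ := (isUnit_chr w (Multiplicative.ofAdd 1)).unit
  have hcu : cu ^ n = 1 := by
    apply Units.ext
    rw [Units.val_pow_eq_pow_val, Units.val_one]
    change chr w (Multiplicative.ofAdd 1) ^ n = 1
    have h1 := chr_chi (n : ℤ) w (Multiplicative.ofAdd 1)
    rw [hw, chr_one] at h1
    rw [← map_pow]
    refine Eq.trans ?_ h1.symm
    congr 1
    change _ = Multiplicative.ofAdd ((1 : ℤ) • (n : ℤ))
    rw [one_smul, ← ofAdd_nsmul, nsmul_eq_mul, _root_.mul_one]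
  refine ⟨ptOfChr (chrOfRoot n cu hcu), ?_⟩
  apply chr_injective
  apply MonoidHom.ext_mint
  rw [chr_DSmap, chr_ptOfChr]
  change chrOfRoot n cu hcu (Multiplicative.ofAdd ((1 : ℤ) : ZMod n)) = _
  rw [chrOfRoot_intCast, zpow_one]
  rfl

theorem kummer_isPullback :
    IsPullback (fst (Red.Gm S) (Red.DS S (ZMod n)))
      ((Red.Gm S ◁ Red.DSmap S (Int.castAddHom (ZMod n))) ≫ μ[Red.Gm S])
      (Red.chi S (n : ℤ)) (Red.chi S (n : ℤ)) :=
  isPullback_of_kernel _ _ (kummer_comp n) (fun _ w hw => kummer_ker n w hw)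
    (fun _ z z' h => kummer_mono n z z' h)

end

end Groth.Agent.Lib.Helper6.DS
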