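import Mathlib
import Groth.Prelude.Def_NonAbH2
import Groth.Prelude.Def_Red2
import Groth.Agent.Lib.Helper6.DS.Kummer

/-!
# Exactness of the Kummer sequence for flat topologies
-/

open CategoryTheory CategoryTheory.Limits MonoidalCategory CartesianMonoidalCategory MonObj
  AlgebraicGeometry Opposite

namespace Groth.Agent.Lib.Helper6.DS

universe u

noncomputable section

attribute [-instance] ULift.module

variable {S : Scheme.{u}} (n : ℕ)

theorem diagMap_left_eq :
    (Red.diagMap (ULift.{u} ℤ) (zmultiplesHom ℤ (n : ℤ))).left =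
      Spec.map (CommRingCat.ofHom (psi (ULift.{u} ℤ) n)) := rfl

theorem flat_surjective_specMap_psi (hn : 0 < n) :
    Flat (Spec.map (CommRingCat.ofHom (psi (ULift.{u} ℤ) n))) ∧
      Surjective (Spec.map (CommRingCat.ofHom (psi (ULift.{u} ℤ) n))) :=
  (flat_and_surjective_SpecMap_iff _).mpr (faithfullyFlat_psi (ULift.{u} ℤ) hn)

theorem lfp_specMap_psi (hn : 0 < n) :
    LocallyOfFinitePresentation (Spec.map (CommRingCat.ofHom (psi (ULift.{u} ℤ) n))) :=
  (HasRingHomProperty.Spec_iff (P := @LocallyOfFinitePresentation)).mpr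
    (finitePresentation_psi (ULift.{u} ℤ) hn)

theorem flat_chi (hn : 0 < n) : Flat (Red.chi S (n : ℤ)).left :=
  prop_pullback_map _ @Flat _ (flat_surjective_specMap_psi n hn).1

theorem surjective_chi (hn : 0 < n) : Surjective (Red.chi S (n : ℤ)).left :=
  prop_pullback_map _ @Surjective _ (flat_surjective_specMap_psi n hn).2

theorem lfp_chi (hn : 0 < n) : LocallyOfFinitePresentation (Red.chi S (n : ℤ)).left :=
  prop_pullback_map _ @LocallyOfFinitePresentation _ (lfp_specMap_psi n hn)

theorem quasiCompact_chi : QuasiCompact (Red.chi S (n : ℤ)).left :=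
  prop_pullback_map _ @QuasiCompact _
    (inferInstanceAs (QuasiCompact (Spec.map (CommRingCat.ofHom (psi (ULift.{u} ℤ) n)))))

/-- The Kummer sequence is exact for any topology for which flat surjective quasi-compact
morphisms locally of finite presentation are coverings. -/
theorem isExactSeq_kummer (K : Precoverage Scheme.{u})
    (hK : ∀ {X Y : Scheme.{u}} (f : X ⟶ Y) [Flat f] [Surjective f]
      [LocallyOfFinitePresentation f] [QuasiCompact f], Presieve.singleton f ∈ K Y)
    (hn : 0 < n) :
    NonAbH1.IsExactSeq (S := S) K (Red.DSmap S (Int.castAddHom (ZMod n))) (Red.chi S (n : ℤ)) := by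
  refine ⟨inferInstance, inferInstance, kummer_comp n, kummer_isPullback n, ?_⟩
  have := flat_chi (S := S) n hn
  have := surjective_chi (S := S) n hn
  have := lfp_chi (S := S) n hn
  have := quasiCompact_chi (S := S) n
  refine ⟨Presieve.singleton (Red.chi S (n : ℤ)).left, hK _, ?_⟩
  rintro S' f ⟨⟩
  exact ⟨𝟙 _, Category.id_comp _⟩

end

end Groth.Agent.Lib.Helper6.DS
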