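import Mathlib
import Groth.Prelude.Def_GmPts
import Groth.Prelude.Def_Red2
import Groth.Agent.Lib.Helper6.DS.HomGa
import Groth.Agent.Lib.Helper6.DS.BcGen
import Groth.Agent.Lib.Helper6.DS.FlatZero

/-!
# Homomorphisms from a flat-locally diagonalisable group to `𝔾_a` are trivial
-/

open CategoryTheory CategoryTheory.Limits MonoidalCategory CartesianMonoidalCategory MonObj
  AlgebraicGeometry Opposite

namespace Groth.Agent.Lib.Helper6.DS

universe u

noncomputable section

open GaGm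

theorem eq_one_of_locally_diag {S : Scheme.{u}} (H : Over S) [GrpObj H] (u : H ⟶ Red.Ga S)
    [IsMonHom u]
    (hloc : ∀ s : S, ∃ (U : Scheme.{u}) (g : U ⟶ S) (_ : Flat g) (x : U), g x = s ∧
      ∃ (M : Type) (_ : AddCommGroup M), Nonempty (Grp.mk (Red.bc g H) ≅ Grp.mk (Red.DS U M))) :
    u = 1 := by
  apply fnOfPt_injective
  rw [fnOfPt_one]
  apply eq_zero_of_flat_cover
  intro h
  obtain ⟨U, g, hg, x, hx, M, _, ⟨e⟩⟩ := hloc (H.hom h)
  obtain ⟨y, hy1, -⟩ := Scheme.Pullback.exists_preimage_pullback (f := H.hom) (g := g) h x hx.symm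
  refine ⟨(Red.bc g H).left, pullback.fst H.hom g, inferInstance, y, hy1, ?_⟩
  let v : Red.bc g H ⟶ Red.Ga U := ptOfFn ((pullback.fst H.hom g).appTop (fnOfPt u))
  have hv : ∀ (T : Over U) (x : T ⟶ Red.bc g H), fnOfPt (x ≫ v) = fnOfPt (down g x ≫ u) := by
    intro T x
    rw [fnOfPt_comp, fnOfPt_ptOfFn, fnOfPt_comp, down_left]
    exact (GmPts.appTop_comp_apply _ _ _).symm
  have hmon : IsMonHom v := by
    refine isMonHom_of_pts v ?_ ?_
    · apply fnOfPt_injective
      have h3 := MonObj.one_comp (X := Over.mk ((𝟙_ (Over U)).hom ≫ g)) u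
      rw [hv, down_one, h3, fnOfPt_one, fnOfPt_one]
    · intro T x y
      apply fnOfPt_injective
      have h3 := MonObj.mul_comp (down g x) (down g y) u
      rw [hv, down_mul, h3, fnOfPt_mul, fnOfPt_mul, hv, hv]
  have hw : e.inv.hom.hom ≫ v = 1 := hom_DS_Ga_eq_one _
  have hid : e.hom.hom.hom ≫ e.inv.hom.hom = 𝟙 _ := by
    rw [← Grp.comp_hom_hom, e.hom_inv_id]
    rfl
  have hv1 : v = 1 := by
    calc v = (e.hom.hom.hom ≫ e.inv.hom.hom) ≫ v := by rw [hid, Category.id_comp]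
      _ = e.hom.hom.hom ≫ 1 := by rw [Category.assoc, hw]
      _ = 1 := MonObj.comp_one _
  have h2 := fnOfPt_ptOfFn (S := U) (T := Red.bc g H) ((pullback.fst H.hom g).appTop (fnOfPt u))
  rw [← h2]
  change fnOfPt v = 0
  rw [hv1, fnOfPt_one]

end

end Groth.Agent.Lib.Helper6.DS
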